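import Groth.Agent.WeakAssLib.Basic
import Mathlib

/-!
# Weakly associated primes along finite flat and quasi-finite flat ring maps
-/

set_option autoImplicit false

universe u

open TensorProduct

namespace WeakBCLib

open Groth.Agent.WeakAssLib

variable {A : Type u} [CommRing A]

theorem weakAss_of_linearEquiv {M N : Type u} [AddCommGroup M] [Module A M] [AddCommGroup N] [Module A N]
    (e : M ≃ₗ[A] N) : FlatCA.weakAss A M = FlatCA.weakAss A N := by
  ext p
  rw [mem_weakAss_iff, mem_weakAss_iff]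
  refine and_congr_right fun _ => ⟨?_, ?_⟩
  · rintro ⟨m, h1, h2⟩
    exact ⟨e m, fun r hr => h1 r (e.injective (by rw [map_smul, hr, map_zero])), fun x hx => by
      obtain ⟨s, hs, n, hn⟩ := h2 x hx
      exact ⟨s, hs, n, by rw [← map_smul, hn, map_zero]⟩⟩
  · rintro ⟨m, h1, h2⟩
    exact ⟨e.symm m, fun r hr => h1 r (e.symm.injective (by rw [map_smul, hr, map_zero])), fun x hx => by
      obtain ⟨s, hs, n, hn⟩ := h2 x hx
      exact ⟨s, hs, n, by rw [← map_smul, hn, map_zero]⟩⟩

variable {B : Type u} [CommRing B] [Algebra A B] (M : Type u) [AddCommGroup M] [Module A M]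

/-- Weakly associated primes go up along flat maps at primes minimal in their fibres. -/
theorem baseChange_of_weakAss [Module.Flat A B] (p : Ideal A) [p.IsPrime] (t : Ideal B) [t.IsPrime]
    [ht : t.LiesOver p] (hfib : ∀ Q : Ideal B, Q.IsPrime → Q ≤ t → Q.comap (algebraMap A B) = p → Q = t)
    (h : p ∈ FlatCA.weakAss A M) : t ∈ FlatCA.weakAss B (B ⊗[A] M) := by
  obtain ⟨m, hm⟩ := h
  obtain ⟨⟨-, hle⟩, hmin⟩ := hm
  set I := (Submodule.span A {m}).annihilator with hI
  let g : (A ⧸ I) →ₗ[A] M := Submodule.liftQ I (LinearMap.toSpanSingleton A M m) fun a ha => (mem_ann m a).1 ha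
  have hg : Function.Injective g := by
    rw [← LinearMap.ker_eq_bot, Submodule.ker_liftQ_eq_bot]
    exact fun a ha => (mem_ann m a).2 ha
  have hgB := Module.Flat.lTensor_preserves_injective_linearMap (M := B) g hg
  have hann : ∀ b : B, b • ((1 : B) ⊗ₜ[A] m) = 0 → b ∈ I.map (algebraMap A B) := fun b hb => by
    have h0 : b ⊗ₜ[A] (Submodule.Quotient.mk 1 : A ⧸ I) = 0 := hgB (by
      rw [map_zero, LinearMap.lTensor_tmul]
      change b ⊗ₜ[A] ((1 : A) • m) = 0
      rw [one_smul]
      simpa [TensorProduct.smul_tmul'] using hb)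
    have h1 := congrArg (TensorProduct.tensorQuotEquivQuotSMul B I) h0
    rw [map_zero, show (Submodule.Quotient.mk 1 : A ⧸ I) = Ideal.Quotient.mk I 1 from rfl,
      TensorProduct.tensorQuotEquivQuotSMul_tmul_mk, one_smul, Submodule.Quotient.mk_eq_zero] at h1
    rwa [Ideal.smul_top_eq_map, Submodule.restrictScalars_mem] at h1
  refine ⟨(1 : B) ⊗ₜ[A] m, ⟨inferInstance, fun b hb => ?_⟩, ?_⟩
  · exact (Ideal.map_le_iff_le_comap.2 (hle.trans_eq ht.over)) (hann b ((mem_ann _ b).1 hb))
  · rintro Q ⟨hQ, hIQ⟩ hQt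
    refine (hfib Q hQ hQt (le_antisymm ?_ ?_)).ge
    · exact (Ideal.comap_mono hQt).trans_eq ht.over.symm
    · refine hmin ⟨hQ.comap _, fun a ha => hIQ ((mem_ann _ _).2 ?_)⟩
        ((Ideal.comap_mono hQt).trans_eq ht.over.symm)
      rw [TensorProduct.smul_tmul', smul_eq_mul, mul_one, Algebra.algebraMap_eq_smul_one, TensorProduct.smul_tmul,
        (mem_ann m a).1 ha, TensorProduct.tmul_zero]

/-- An element whose radical annihilator has only `t` above `p`. -/
theorem exists_element [Module.Finite A B] {N : Type u} [AddCommGroup N] [Module B N] (p : Ideal A) [p.IsPrime]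
    (t : Ideal B) [t.IsPrime] [ht : t.LiesOver p] (h : t ∈ FlatCA.weakAss B N) :
    ∃ y : N, (∀ c : A, algebraMap A B c • y = 0 → c ∈ p) ∧
      ∀ f ∈ p, ∃ c, c ∉ p ∧ ∃ k : ℕ, algebraMap A B (c * f ^ k) • y = 0 := by
  classical
  obtain ⟨x, hx⟩ := h
  obtain ⟨⟨-, hJt⟩, hmin⟩ := hx
  set J := (Submodule.span B {x}).annihilator with hJ
  haveI : Algebra.IsIntegral A B := Algebra.IsIntegral.of_finite A B
  have hfin : (p.primesOver B).Finite := Algebra.QuasiFinite.finite_primesOver p
  have hkill : ∀ P : Ideal B, ∃ s, s ∉ t ∧ ((P ∈ p.primesOver B ∧ P ≠ t) → ∃ u, u ∉ P ∧ u * s ∈ J) := by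
    intro P
    by_cases hP : P ∈ p.primesOver B ∧ P ≠ t
    · obtain ⟨⟨hPp, hPo⟩, hPt⟩ := hP
      let S : Submonoid B := P.primeCompl ⊔ t.primeCompl
      by_cases hdis : Disjoint (J : Set B) (S : Set B)
      · exfalso
        obtain ⟨Q, hQ, hJQ, hQS⟩ := Ideal.exists_le_prime_disjoint J S hdis
        have h1 : Q ≤ t := fun a ha => by
          by_contra hat
          exact Set.disjoint_left.1 hQS ha (Submonoid.mem_sup_right (show a ∈ t.primeCompl from hat))
        have h2 : Q ≤ P := fun a ha => by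
          by_contra haP
          exact Set.disjoint_left.1 hQS ha (Submonoid.mem_sup_left (show a ∈ P.primeCompl from haP))
        have h3 : t ≤ P := (hmin ⟨hQ, hJQ⟩ h1).trans h2
        haveI := hPo
        exact hPt (Algebra.QuasiFinite.eq_of_le_of_under_eq (R := A) t P h3 (ht.over.symm.trans hPo.over)).symm
      · obtain ⟨a, haJ, haS⟩ := Set.not_disjoint_iff.1 hdis
        obtain ⟨u, hu, s, hs, rfl⟩ := Submonoid.mem_sup.1 haS
        exact ⟨s, hs, fun _ => ⟨u, hu, haJ⟩⟩
    · exact ⟨1, t.one_notMem, fun h => absurd h hP⟩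
  choose s hs hsP using hkill
  let σ := ∏ P ∈ hfin.toFinset, s P
  have hσ : σ ∉ t := fun hmem => by
    obtain ⟨P, -, hP⟩ := (‹t.IsPrime›.prod_mem_iff).1 hmem
    exact hs P hP
  have hy : ∀ b : B, b • σ • x = 0 → b ∈ t := fun b hb => by
    rw [smul_smul] at hb
    exact (‹t.IsPrime›.mem_or_mem (hJt ((mem_ann x _).2 hb))).resolve_right hσ
  refine ⟨σ • x, fun c hc => ?_, fun f hf => ?_⟩
  · rw [ht.over]
    exact hy _ hc
  · let K := (Submodule.span B {σ • x}).annihilator
    let T : Submonoid A := p.primeCompl ⊔ Submonoid.powers f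
    by_cases hdis : Disjoint (K : Set B) (T.map (algebraMap A B) : Set B)
    · exfalso
      obtain ⟨Q, hQ, hKQ, hQT⟩ := Ideal.exists_le_prime_disjoint K (T.map (algebraMap A B)) hdis
      have hnot : ∀ a, a ∈ T → algebraMap A B a ∉ Q := fun a ha h =>
        Set.disjoint_left.1 hQT h ⟨a, ha, rfl⟩
      have hQp : Q.comap (algebraMap A B) ≤ p := fun a ha => by
        by_contra hap
        exact hnot a (Submonoid.mem_sup_left (show a ∈ p.primeCompl from hap)) ha
      obtain ⟨P, hQP, hP, hPp⟩ := Ideal.exists_ideal_over_prime_of_isIntegral p Q hQp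
      have hPt : P = t := by
        by_contra hne
        have hmem : P ∈ p.primesOver B := ⟨hP, ⟨hPp.symm⟩⟩
        obtain ⟨u, hu, hus⟩ := hsP P ⟨hmem, hne⟩
        refine hu (hQP (hKQ ((mem_ann _ _).2 ?_)))
        obtain ⟨r, hr⟩ : s P ∣ σ := Finset.dvd_prod_of_mem s (hfin.mem_toFinset.2 hmem)
        rw [smul_smul, hr, ← mul_assoc, mul_comm, mul_smul, (mem_ann x _).1 hus, smul_zero]
      subst hPt
      have hQJ : J ≤ Q := fun a ha => hKQ ((mem_ann _ _).2 (by
        rw [smul_smul, mul_comm, mul_smul, (mem_ann x a).1 ha, smul_zero]))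
      refine hnot f (Submonoid.mem_sup_right (Submonoid.mem_powers f)) (hmin ⟨hQ, hQJ⟩ hQP ?_)
      have hf' : f ∈ P.under A := (show p = P.under A from ht.over) ▸ hf
      exact hf'
    · obtain ⟨_, haK, a, ha, rfl⟩ := Set.not_disjoint_iff.1 hdis
      obtain ⟨c, hc, _, ⟨k, rfl⟩, rfl⟩ := Submonoid.mem_sup.1 ha
      exact ⟨c, hc, k, (mem_ann _ _).1 haK⟩

/-- Weakly associated primes go down along finite flat maps. -/
theorem weakAss_of_baseChange [Module.Finite A B] [Module.Flat A B] (p : Ideal A) [p.IsPrime] (t : Ideal B)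
    [t.IsPrime] [t.LiesOver p] (h : t ∈ FlatCA.weakAss B (B ⊗[A] M)) : p ∈ FlatCA.weakAss A M := by
  obtain ⟨y, hy1, hy2⟩ := exists_element p t h
  let L := Localization.AtPrime p
  let ι : B ⊗[A] M →ₗ[A] L ⊗[A] (B ⊗[A] M) := TensorProduct.mk A L (B ⊗[A] M) 1
  haveI : Module.Free L (L ⊗[A] B) := Module.free_of_flat_of_isLocalRing
  let b := Module.Free.chooseBasis L (L ⊗[A] B)
  let e : L ⊗[A] (B ⊗[A] M) ≃ₗ[L] (_ →₀ L ⊗[A] M) :=
    (TensorProduct.AlgebraTensorModule.distribBaseChange A L B M).trans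
      (TensorProduct.equivFinsuppOfBasisLeft b)
  haveI : IsLocalizedModule p.primeCompl ι := inferInstance
  have hι : ι y ≠ 0 := fun h0 => by
    obtain ⟨c, hc⟩ := (IsLocalizedModule.eq_zero_iff p.primeCompl ι).1 h0
    exact c.2 (hy1 c (by rw [algebraMap_smul]; exact hc))
  obtain ⟨i, hi⟩ := Finsupp.ne_iff.1 ((e.map_ne_zero_iff).2 hι)
  have hd : Disjoint (p.primeCompl : Set A) (p : Set A) := Set.disjoint_left.2 fun _ h => h
  rw [← weakAss_localized_iff p.primeCompl p hd,
    weakAss_of_linearEquiv ((LocalizedModule.equivTensorProduct p.primeCompl M).restrictScalars A),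
    mem_weakAss_iff]
  refine ⟨inferInstance, e (ι y) i, fun r hr => ?_, fun f hf => ?_⟩
  · by_contra hrp
    refine hi ?_
    rw [← algebraMap_smul L r] at hr
    exact (IsLocalization.map_units L (⟨r, hrp⟩ : p.primeCompl)).smul_eq_zero.1 hr
  · obtain ⟨c, hc, k, hk⟩ := hy2 f hf
    refine ⟨c, hc, k, ?_⟩
    rw [algebraMap_smul] at hk
    rw [← algebraMap_smul L, ← Finsupp.smul_apply, ← map_smul, algebraMap_smul, ← map_smul, hk, map_zero, map_zero]
    rfl

/-- Transfer along a localization of the algebra. -/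
theorem weakAss_localization_iff {L : Type u} [CommRing L] [Algebra B L] [Algebra A L] [IsScalarTower A B L]
    (S : Submonoid B) [IsLocalization S L] (Q : Ideal L) [Q.IsPrime] :
    Q ∈ FlatCA.weakAss L (L ⊗[A] M) ↔ Q.comap (algebraMap B L) ∈ FlatCA.weakAss B (B ⊗[A] M) := by
  let ι : B ⊗[A] M →ₗ[B] L ⊗[B] (B ⊗[A] M) := TensorProduct.mk B L (B ⊗[A] M) 1
  haveI : IsLocalizedModule S ι := inferInstance
  have hd : Disjoint (S : Set B) (Q.comap (algebraMap B L) : Set B) := Set.disjoint_left.2 fun s hs hmem =>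
    ‹Q.IsPrime›.ne_top (Ideal.eq_top_of_isUnit_mem _ hmem (IsLocalization.map_units L ⟨s, hs⟩))
  rw [← weakAss_localized_iff S _ hd, weakAss_of_linearEquiv (A := B) (IsLocalizedModule.iso S ι),
    weakAss_of_linearEquiv (A := B) ((TensorProduct.AlgebraTensorModule.cancelBaseChange A B L L M).restrictScalars B),
    weakAss_isLocalization (A := L) S]
  refine ⟨fun h => ⟨Q, h, rfl⟩, ?_⟩
  rintro ⟨Q', hQ', heq⟩
  have h3 : Q' = Q := by
    rw [← IsLocalization.map_under S L Q', ← IsLocalization.map_under S L Q]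
    exact congrArg (Ideal.map (algebraMap B L)) heq
  rwa [← h3]

end WeakBCLib
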